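import Cfsg.Agent.EqLemmas
import Mathlib.GroupTheory.PGroup

/-! Involutions in an extraspecial group of order 32 admitting an automorphism of order 5,
and the centraliser in it of an outer involution with abelian centraliser. -/

set_option autoImplicit false

namespace Cfsg.Agent.OrderJTwo

/-- Fixed points of an element of prime order acting by conjugation. -/
theorem fix_modEq {G : Type*} [Group G] [Finite G] (c : G) (hc : c ^ 5 = 1) (S : Set G)
    (hS : ∀ x ∈ S, c * x * c⁻¹ ∈ S) :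
    S.ncard ≡ {x | x ∈ S ∧ c * x * c⁻¹ = x}.ncard [MOD 5] := by
  haveI : Fact (Nat.Prime 5) := ⟨by norm_num⟩
  have hpow : ∀ k : ℕ, ∀ x ∈ S, c ^ k * x * (c ^ k)⁻¹ ∈ S := by
    intro k
    induction k with
    | zero => intro x hx; simpa using hx
    | succ k ih =>
      intro x hx
      rw [show c ^ (k + 1) * x * (c ^ (k + 1))⁻¹ = c * (c ^ k * x * (c ^ k)⁻¹) * c⁻¹ by rw [pow_succ']; group]
      exact hS _ (ih x hx)
  have hmem : ∀ g ∈ Subgroup.zpowers c, ∀ x ∈ S, g * x * g⁻¹ ∈ S := by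
    intro g hg x hx
    obtain ⟨k, rfl⟩ := mem_powers_iff_mem_zpowers.mpr hg
    exact hpow k x hx
  letI : MulAction (Subgroup.zpowers c) S :=
    { smul := fun g y => ⟨g * y * (g : G)⁻¹, hmem g g.2 y y.2⟩
      one_smul := fun y => Subtype.ext (show (1 : G) * y * (1 : G)⁻¹ = y by simp)
      mul_smul := fun g h y => Subtype.ext (show ((g * h : Subgroup.zpowers c) : G) * y *
        ((g * h : Subgroup.zpowers c) : G)⁻¹ = g * (h * y * (h : G)⁻¹) * (g : G)⁻¹ by rw [Subgroup.coe_mul]; group) }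
  have hp : IsPGroup 5 (Subgroup.zpowers c) := by
    intro g
    refine ⟨1, ?_⟩
    obtain ⟨k, hk⟩ := Subgroup.mem_zpowers_iff.mp g.2
    refine Subtype.ext ?_
    rw [Subgroup.coe_pow, ← hk, pow_one, ← zpow_natCast, ← zpow_mul, mul_comm, zpow_mul, zpow_natCast, hc, one_zpow]
    rfl
  have h := hp.card_modEq_card_fixedPoints S
  rw [Nat.card_coe_set_eq] at h
  have e : Subtype.val '' MulAction.fixedPoints (Subgroup.zpowers c) S = {x | x ∈ S ∧ c * x * c⁻¹ = x} := by
    ext x
    constructor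
    · rintro ⟨⟨y, hy⟩, hf, rfl⟩
      exact ⟨hy, congrArg Subtype.val (hf ⟨c, Subgroup.mem_zpowers c⟩)⟩
    · rintro ⟨hx, hcx⟩
      refine ⟨⟨x, hx⟩, fun g => Subtype.ext ?_, rfl⟩
      obtain ⟨k, hk⟩ := Subgroup.mem_zpowers_iff.mp g.2
      show (g : G) * x * (g : G)⁻¹ = x
      rw [← hk, mul_inv_eq_iff_eq_mul]
      exact ((show Commute c x from mul_inv_eq_iff_eq_mul.mp hcx).zpow_left k).eq
  rwa [← e, Set.ncard_image_of_injective _ Subtype.val_injective, ← Nat.card_coe_set_eq (MulAction.fixedPoints _ _)]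

/-- A subgroup in which any two outside elements multiply into `K` has index at most two. -/
theorem card_le_two_mul {G : Type*} [Group G] [Finite G] (H K : Subgroup G) (hKH : K ≤ H)
    (h : ∀ a ∈ H, ∀ b ∈ H, a ∉ K → b ∉ K → a * b ∈ K) : Nat.card H ≤ 2 * Nat.card K := by
  have e1 := Set.ncard_sdiff_add_ncard_of_subset (s := (K : Set G)) (t := (H : Set G)) hKH
  have e2 : ((H : Set G) \ K).ncard ≤ (K : Set G).ncard := by
    rcases ((H : Set G) \ K).eq_empty_or_nonempty with h0 | ⟨b, hb⟩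
    · rw [h0, Set.ncard_empty]; exact Nat.zero_le _
    · exact Set.ncard_le_ncard_of_injOn (fun a => a * b) (fun a ha => h a ha.1 b hb.1 ha.2 hb.2)
        (mul_left_injective b).injOn
  simp only [← Nat.card_coe_set_eq, SetLike.coe_sort_coe] at e1 e2 ⊢
  omega

/-- The hypotheses on `Q`. -/
structure Q32 {G : Type*} [Group G] (Q : Subgroup G) (z : G) : Prop where
  card : Nat.card Q = 32
  zmem : z ∈ Q
  sqz : z * z = 1
  zne : z ≠ 1
  zcomm : ∀ x ∈ Q, x * z = z * x
  comm : ∀ x ∈ Q, ∀ y ∈ Q, x * y = y * x ∨ x * y = y * x * z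
  sq : ∀ x ∈ Q, x * x = 1 ∨ x * x = z
  cen : ∀ x ∈ Q, (∀ y ∈ Q, x * y = y * x) → x = 1 ∨ x = z

/-- The non-central involutions. -/
def invSet {G : Type*} [Group G] (Q : Subgroup G) (z : G) : Set G :=
  {x | x ∈ Q ∧ x * x = 1 ∧ x ≠ 1 ∧ x ≠ z}

variable {G : Type*} [Group G] [Finite G] {Q : Subgroup G} {z : G}

/-- The four-subgroup generated by an involution and `z`. -/
def four (hQ : Q32 Q z) {u : G} (hu : u ∈ invSet Q z) : Subgroup G where
  carrier := {1, z, u, u * z}
  one_mem' := by simp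
  mul_mem' := by
    have huz : u * z = z * u := hQ.zcomm u hu.1
    have h1 := hu.2.1
    have h2 := hQ.sqz
    have e1 : z * (u * z) = u := by rw [huz, ← mul_assoc, h2, one_mul]
    have e2 : u * (u * z) = z := by rw [← mul_assoc, h1, one_mul]
    have e3 : u * z * u = z := by rw [huz, mul_assoc, h1, mul_one]
    have e4 : u * z * z = u := by rw [mul_assoc, h2, mul_one]
    have e5 : u * z * (u * z) = 1 := by rw [← mul_assoc, e3, h2]
    intro a b ha hb
    simp only [Set.mem_insert_iff, Set.mem_singleton_iff] at ha hb ⊢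
    rcases ha with ha | ha | ha | ha <;> rcases hb with hb | hb | hb | hb <;> rw [ha, hb] <;>
      simp [h1, h2, e1, e2, e3, e4, e5, ← huz]
  inv_mem' := by
    have huz : u * z = z * u := hQ.zcomm u hu.1
    intro a ha
    simp only [Set.mem_insert_iff, Set.mem_singleton_iff] at ha ⊢
    rcases ha with rfl | rfl | rfl | rfl
    · left; simp
    · right; left; exact inv_eq_of_mul_eq_one_right hQ.sqz
    · right; right; left; exact inv_eq_of_mul_eq_one_right hu.2.1
    · right; right; right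
      refine inv_eq_of_mul_eq_one_right ?_
      rw [mul_assoc, ← mul_assoc z, ← huz, mul_assoc u z, hQ.sqz, mul_one, hu.2.1]

omit [Finite G] in
theorem mul_mem_invSet (hQ : Q32 Q z) {u : G} (hu : u ∈ invSet Q z) : u * z ∈ invSet Q z := by
  refine ⟨mul_mem hu.1 hQ.zmem, ?_, fun h => hu.2.2.2 ?_, fun h => hu.2.2.1 ?_⟩
  · rw [mul_assoc, ← mul_assoc z, ← hQ.zcomm u hu.1, mul_assoc u z, hQ.sqz, mul_one, hu.2.1]
  · rw [eq_inv_of_mul_eq_one_left h, inv_eq_of_mul_eq_one_right hQ.sqz]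
  · simpa using h

theorem card_four (hQ : Q32 Q z) {u : G} (hu : u ∈ invSet Q z) : Nat.card (four hQ hu) = 4 := by
  show Nat.card ↥({1, z, u, u * z} : Set G) = 4
  rw [Nat.card_coe_set_eq, Set.ncard_insert_of_notMem, Set.ncard_insert_of_notMem, Set.ncard_pair]
  · intro h; exact hQ.zne (by simpa using h.symm)
  · simp only [Set.mem_insert_iff, Set.mem_singleton_iff, not_or]
    exact ⟨Ne.symm hu.2.2.2, fun h => hu.2.2.1 (by simpa using h.symm)⟩
  · simp only [Set.mem_insert_iff, Set.mem_singleton_iff, not_or]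
    exact ⟨Ne.symm hQ.zne, Ne.symm hu.2.2.1, Ne.symm (mul_mem_invSet hQ hu).2.2.1⟩

/-- Ten non-central involutions; commuting ones differ by `z`. -/
theorem invSet_facts (hQ : Q32 Q z) (c : G) (hc : c ^ 5 = 1) (hcz : c * z * c⁻¹ = z)
    (hcQ : ∀ x ∈ Q, c * x * c⁻¹ ∈ Q) (hcn : ∃ x ∈ Q, c * x * c⁻¹ ≠ x) :
    (invSet Q z).ncard = 10 ∧
      ∀ u ∈ invSet Q z, ∀ w ∈ invSet Q z, u * w = w * u → w = u ∨ w = u * z := by
  -- `c` fixes exactly the centre
  let F : Subgroup G := Q ⊓ Subgroup.centralizer {c}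
  have hFmem : ∀ x, x ∈ F ↔ x ∈ Q ∧ c * x * c⁻¹ = x := fun x => by
    simp only [F, Subgroup.mem_inf, Subgroup.mem_centralizer_iff, Set.mem_singleton_iff, forall_eq,
      mul_inv_eq_iff_eq_mul]
  have hF : Nat.card F = 2 := by
    have h5 := fix_modEq c hc (Q : Set G) hcQ
    rw [show {x | x ∈ (Q : Set G) ∧ c * x * c⁻¹ = x} = (F : Set G) by ext x; exact (hFmem x).symm,
      ← Nat.card_coe_set_eq, ← Nat.card_coe_set_eq, SetLike.coe_sort_coe, SetLike.coe_sort_coe, hQ.card] at h5
    have hd : Nat.card F ∣ 2 ^ 5 := by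
      have := Subgroup.card_dvd_of_le (inf_le_left : F ≤ Q)
      rwa [hQ.card] at this
    have hne : Nat.card F ≠ 32 := by
      intro h
      obtain ⟨x, hx, hcx⟩ := hcn
      have e : F = Q := Subgroup.eq_of_le_of_card_ge inf_le_left (by rw [h, hQ.card])
      exact hcx ((hFmem x).mp (e ▸ hx)).2
    obtain ⟨i, hi, hi'⟩ := (Nat.dvd_prime_pow Nat.prime_two).mp hd
    rw [hi'] at h5 hne ⊢
    interval_cases i <;> simp_all (config := {decide := true}) [Nat.ModEq]
  have hcfix : ∀ x ∈ invSet Q z, c * x * c⁻¹ ≠ x := by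
    intro x hx h
    have h3 : ({1, z, x} : Set G) ⊆ F := by
      intro y hy
      rcases hy with rfl | rfl | rfl
      · exact one_mem F
      · exact (hFmem _).mpr ⟨hQ.zmem, hcz⟩
      · exact (hFmem _).mpr ⟨hx.1, h⟩
    have := Set.ncard_le_ncard h3 (Set.toFinite _)
    rw [Set.ncard_insert_of_notMem (by
      simp only [Set.mem_insert_iff, Set.mem_singleton_iff, not_or]
      exact ⟨Ne.symm hQ.zne, Ne.symm hx.2.2.1⟩), Set.ncard_pair (Ne.symm hx.2.2.2), ← Nat.card_coe_set_eq,
      SetLike.coe_sort_coe, hF] at this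
    omega
  have h5I : 5 ∣ (invSet Q z).ncard := by
    have hinv : ∀ x ∈ invSet Q z, c * x * c⁻¹ ∈ invSet Q z := fun x hx =>
      ⟨hcQ x hx.1, by rw [conj_mul, hx.2.1]; group, fun h => hx.2.2.1 (conj_eq_one_iff.mp h),
        fun h => hx.2.2.2 ((MulAut.conj c).injective (h.trans hcz.symm))⟩
    have h := fix_modEq c hc _ hinv
    rw [show {x | x ∈ invSet Q z ∧ c * x * c⁻¹ = x} = ∅ by
      ext x; simp only [Set.mem_setOf_eq, Set.mem_empty_iff_false, iff_false, not_and]; exact hcfix x,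
      Set.ncard_empty] at h
    exact (Nat.modEq_zero_iff_dvd).mp h
  have key : ∀ u ∈ invSet Q z, (invSet Q z).ncard = 10 ∧ ∀ w ∈ invSet Q z, u * w = w * u → w = u ∨ w = u * z := by
    intro u hu
    let U : Subgroup G := Q ⊓ Subgroup.centralizer {u}
    have hUmem : ∀ x, x ∈ U ↔ x ∈ Q ∧ u * x = x * u := fun x => by
      simp only [U, Subgroup.mem_inf, Subgroup.mem_centralizer_iff, Set.mem_singleton_iff, forall_eq]
    have hout : ∀ x ∈ Q, x ∉ U → u * x = x * u * z := fun x hx hxU =>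
      (hQ.comm u hu.1 x hx).resolve_left fun h => hxU ((hUmem x).mpr ⟨hx, h⟩)
    have hU : Nat.card U = 16 := by
      have h1 := card_le_two_mul Q U inf_le_left (by
        intro a ha b hb haU hbU
        refine (hUmem _).mpr ⟨mul_mem ha hb, ?_⟩
        rw [← mul_assoc, hout a ha haU, mul_assoc (a * u) z b, ← hQ.zcomm b hb, ← mul_assoc, mul_assoc a u b,
          hout b hb hbU]
        simp only [mul_assoc, hQ.sqz, mul_one])
      have hne : Nat.card U ≠ 32 := fun h => by
        have e : U = Q := Subgroup.eq_of_le_of_card_ge inf_le_left (by rw [h, hQ.card])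
        rcases hQ.cen u hu.1 (fun y hy => ((hUmem y).mp (e ▸ hy)).2) with h | h
        · exact hu.2.2.1 h
        · exact hu.2.2.2 h
      have hd := Subgroup.card_dvd_of_le (inf_le_left : U ≤ Q)
      rw [hQ.card] at hd h1
      obtain ⟨i, hi, hi'⟩ := (Nat.dvd_prime_pow Nat.prime_two).mp (show Nat.card U ∣ 2 ^ 5 from hd)
      rw [hi'] at h1 hne ⊢
      interval_cases i <;> simp_all
    -- the involutions outside `U`
    set O := (Q : Set G) \ U with hO
    have hOcard : O.ncard = 16 := by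
      have := Set.ncard_sdiff_add_ncard_of_subset (s := (U : Set G)) (t := (Q : Set G)) (inf_le_left : U ≤ Q)
      rw [← Nat.card_coe_set_eq (U : Set G), ← Nat.card_coe_set_eq (Q : Set G), SetLike.coe_sort_coe,
        SetLike.coe_sort_coe, hU, hQ.card, ← hO] at this
      omega
    set O1 := {x | x ∈ O ∧ x * x = 1}
    set O2 := {x | x ∈ O ∧ x * x = z}
    have hflip : ∀ x ∈ O, x * u ∈ O ∧ (x * u) * (x * u) = x * x * z := by
      rintro x ⟨hx, hxU⟩
      refine ⟨⟨mul_mem hx hu.1, fun h => hxU ?_⟩, ?_⟩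
      · have huU : u ∈ U := (hUmem u).mpr ⟨hu.1, rfl⟩
        have := mul_mem h (inv_mem huU)
        simpa using this
      · calc (x * u) * (x * u) = x * (u * x) * u := by group
          _ = x * (x * u * z) * u := by rw [hout x hx hxU]
          _ = x * x * (u * (z * u)) := by group
          _ = x * x * z := by rw [← hQ.zcomm u hu.1, ← mul_assoc u u z, hu.2.1, one_mul]
    have hO12 : O1.ncard = O2.ncard := by
      have : O2 = (fun x => x * u) '' O1 := by
        ext x
        constructor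
        · rintro ⟨hx, hx2⟩
          obtain ⟨h1, h2⟩ := hflip x hx
          exact ⟨x * u, ⟨h1, by rw [h2, hx2, hQ.sqz]⟩, by simp [mul_assoc, hu.2.1]⟩
        · rintro ⟨y, ⟨hy, hy2⟩, rfl⟩
          exact ⟨(hflip y hy).1, by rw [(hflip y hy).2, hy2, one_mul]⟩
      rw [this, Set.ncard_image_of_injective _ (mul_left_injective u)]
    have hO16 : O1.ncard + O2.ncard = 16 := by
      rw [← hOcard, ← Set.ncard_union_eq ?_ (Set.toFinite _) (Set.toFinite _)]
      · congr 1
        ext x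
        constructor
        · rintro (h | h) <;> exact h.1
        · intro hx; exact (hQ.sq x hx.1).imp (fun h => ⟨hx, h⟩) fun h => ⟨hx, h⟩
      · rw [Set.disjoint_left]
        rintro x ⟨-, h1⟩ ⟨-, h2⟩
        exact hQ.zne (h2.symm.trans h1)
    -- the involutions inside `U`, outside the four-group
    set W := four hQ hu
    have hWU : W ≤ U := by
      intro a ha
      rcases ha with rfl | rfl | rfl | rfl
      · exact one_mem U
      · exact (hUmem _).mpr ⟨hQ.zmem, hQ.zcomm u hu.1⟩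
      · exact (hUmem _).mpr ⟨hu.1, rfl⟩
      · exact (hUmem _).mpr ⟨mul_mem hu.1 hQ.zmem, by rw [mul_assoc u z u, ← hQ.zcomm u hu.1]⟩
    set S := {x | x ∈ U ∧ x * x = 1 ∧ x ∉ W} with hS
    have hW2 : ∀ w ∈ W, w * w = 1 := by
      intro w hw
      rcases hw with rfl | rfl | rfl | rfl
      · exact one_mul 1
      · exact hQ.sqz
      · exact hu.2.1
      · exact (mul_mem_invSet hQ hu).2.1
    have hSmul : ∀ x ∈ S, ∀ w ∈ W, x * w ∈ S := by
      rintro x ⟨hxU, hx2, hxW⟩ w hw
      refine ⟨mul_mem hxU (hWU hw), ?_, fun h => hxW (by simpa using mul_mem h (inv_mem hw))⟩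
      have hxw : w * x = x * w := by
        obtain ⟨hxQ, hxu⟩ := (hUmem x).mp hxU
        rcases hw with rfl | rfl | rfl | rfl
        · simp
        · exact (hQ.zcomm x hxQ).symm
        · exact hxu
        · rw [mul_assoc, ← hQ.zcomm x hxQ, ← mul_assoc, hxu, mul_assoc]
      rw [mul_assoc, ← mul_assoc w, hxw, mul_assoc x w, hW2 w hw, mul_one, hx2]
    have h4 : 4 ∣ S.ncard := by
      have e : ((QuotientGroup.mk (s := W)) ⁻¹' ((QuotientGroup.mk (s := W)) '' S) : Set G) = S := by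
        refine Set.Subset.antisymm ?_ (Set.subset_preimage_image _ _)
        rintro x ⟨y, hy, hxy⟩
        have := hSmul y hy _ (QuotientGroup.eq.mp hxy : y⁻¹ * x ∈ W)
        simpa using this
      rw [← e, ← Nat.card_coe_set_eq, Nat.card_congr (QuotientGroup.preimageMkEquivSubgroupProdSet W _),
        Nat.card_prod, card_four hQ hu]
      exact dvd_mul_right _ _
    have hS12 : S.ncard ≤ 12 := by
      have h1 : S ⊆ (U : Set G) \ W := fun x hx => ⟨hx.1, hx.2.2⟩
      have h2 := Set.ncard_le_ncard h1 (Set.toFinite _)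
      have h3 := Set.ncard_sdiff_add_ncard_of_subset (s := (W : Set G)) (t := (U : Set G)) hWU
      rw [← Nat.card_coe_set_eq (W : Set G), ← Nat.card_coe_set_eq (U : Set G), SetLike.coe_sort_coe,
        SetLike.coe_sort_coe, hU, card_four hQ hu] at h3
      omega
    have hdec : invSet Q z = (O1 ∪ {u, u * z}) ∪ S := by
      ext x
      constructor
      · intro hx
        by_cases hxU : x ∈ U
        · by_cases hxW : x ∈ W
          · left; right
            rcases hxW with rfl | rfl | h | h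
            · exact absurd rfl hx.2.2.1
            · exact absurd rfl hx.2.2.2
            · exact Or.inl h
            · exact Or.inr h
          · exact Or.inr ⟨hxU, hx.2.1, hxW⟩
        · exact Or.inl (Or.inl ⟨⟨hx.1, hxU⟩, hx.2.1⟩)
      · rintro ((⟨⟨hx, hxU⟩, hx2⟩ | h | h) | ⟨hxU, hx2, hxW⟩)
        · exact ⟨hx, hx2, fun h => hxU (h ▸ one_mem U),
            fun h => hxU (h ▸ hWU (show z ∈ W from Or.inr (Or.inl rfl)))⟩
        · rw [h]; exact hu
        · rw [Set.mem_singleton_iff.mp h]; exact mul_mem_invSet hQ hu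
        · exact ⟨hxU.1, hx2, fun h => hxW (h ▸ one_mem W),
            fun h => hxW (h ▸ (show z ∈ W from Or.inr (Or.inl rfl)))⟩
    have hpairW : ∀ x ∈ ({u, u * z} : Set G), x ∈ W := fun x hx => Or.inr (Or.inr hx)
    have hd1 : Disjoint O1 ({u, u * z} : Set G) := Set.disjoint_left.mpr fun x hx hx' =>
      hx.1.2 (hWU (hpairW x hx'))
    have hd2 : Disjoint (O1 ∪ {u, u * z}) S := Set.disjoint_left.mpr fun x hx hxS => by
      rcases hx with hx | hx
      · exact hx.1.2 hxS.1
      · exact hxS.2.2 (hpairW x hx)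
    have hpair : ({u, u * z} : Set G).ncard = 2 := Set.ncard_pair fun h => hQ.zne (by simpa using h.symm)
    have hcnt : (invSet Q z).ncard = O1.ncard + 2 + S.ncard := by
      rw [hdec, Set.ncard_union_eq hd2 (Set.toFinite _) (Set.toFinite _),
        Set.ncard_union_eq hd1 (Set.toFinite _) (Set.toFinite _), hpair]
    have hS0 : S.ncard = 0 := by
      obtain ⟨j, hj⟩ := h4
      have : j ≤ 3 := by omega
      have h8 : O1.ncard = 8 := by omega
      rw [hcnt, h8, hj] at h5I
      interval_cases j <;> omega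
    refine ⟨by omega, fun w hw huw => ?_⟩
    rw [hdec] at hw
    rcases hw with (hw | hw) | hw
    · exact absurd ((hUmem w).mpr ⟨hw.1.1, huw⟩) hw.1.2
    · exact hw
    · rw [(Set.ncard_eq_zero (Set.toFinite _)).mp hS0] at hw; exact hw.elim
  -- there is one
  obtain ⟨u, hu⟩ : (invSet Q z).Nonempty := by
    by_contra hne
    rw [Set.not_nonempty_iff_eq_empty] at hne
    have hsq' : ∀ x ∈ Q, x ≠ 1 → x ≠ z → x * x = z := fun x hx h1 h2 =>
      (hQ.sq x hx).resolve_left fun h => by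
        have : x ∈ invSet Q z := ⟨hx, h, h1, h2⟩
        rw [hne] at this
        exact this
    obtain ⟨x, hx, hcx⟩ := hcn
    have hx1 : x ≠ 1 := fun h => hcx (by rw [h]; group)
    have hxz : x ≠ z := fun h => hcx (h ▸ hcz)
    have hx2 := hsq' x hx hx1 hxz
    let U : Subgroup G := Q ⊓ Subgroup.centralizer {x}
    have hUmem : ∀ y, y ∈ U ↔ y ∈ Q ∧ x * y = y * x := fun y => by
      simp only [U, Subgroup.mem_inf, Subgroup.mem_centralizer_iff, Set.mem_singleton_iff, forall_eq]
    have hU : 5 ≤ Nat.card U := by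
      have h1 := card_le_two_mul Q U inf_le_left (by
        intro a ha b hb haU hbU
        have ea := (hQ.comm x hx a ha).resolve_left fun h => haU ((hUmem a).mpr ⟨ha, h⟩)
        have eb := (hQ.comm x hx b hb).resolve_left fun h => hbU ((hUmem b).mpr ⟨hb, h⟩)
        refine (hUmem _).mpr ⟨mul_mem ha hb, ?_⟩
        rw [← mul_assoc, ea, mul_assoc (a * x) z b, ← hQ.zcomm b hb, ← mul_assoc, mul_assoc a x b, eb]
        simp only [mul_assoc, hQ.sqz, mul_one])
      rw [hQ.card] at h1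
      omega
    obtain ⟨y, hy, hy'⟩ : ∃ y ∈ (U : Set G), y ∉ ({1, z, x, x * z} : Set G) := by
      refine Set.exists_mem_notMem_of_ncard_lt_ncard ?_
      rw [← Nat.card_coe_set_eq (U : Set G), SetLike.coe_sort_coe]
      have : ({1, z, x, x * z} : Set G).ncard ≤ 4 := by
        classical
        rw [show ({1, z, x, x * z} : Set G) = ↑({1, z, x, x * z} : Finset G) by simp, Set.ncard_coe_finset]
        exact Finset.card_le_four
      omega
    simp only [Set.mem_insert_iff, Set.mem_singleton_iff, not_or] at hy'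
    obtain ⟨hyQ, hxy⟩ := (hUmem y).mp hy
    have hy2 := hsq' y hyQ hy'.1 hy'.2.1
    have hz' : (x * y) * (x * y) = 1 := by
      rw [mul_assoc, ← mul_assoc y, ← hxy, mul_assoc x y, ← mul_assoc x, hx2, hy2, hQ.sqz]
    have hxy1 : x * y ≠ 1 := fun h => by
      have e : y = x * z := by
        rw [← mul_left_cancel_iff (a := x), h, ← mul_assoc, hx2, hQ.sqz]
      exact hy'.2.2.2 e
    have hxyz : x * y ≠ z := fun h => hy'.2.2.1 (mul_left_cancel (h.trans hx2.symm))
    have := hsq' _ (mul_mem hx hyQ) hxy1 hxyz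
    exact hQ.zne (this.symm.trans hz')
  exact ⟨(key u hu).1, fun u hu => (key u hu).2⟩

/-- An involution acting with abelian centraliser. -/
theorem outer_facts (hQ : Q32 Q z) (hcomm2 : ∀ u ∈ invSet Q z, ∀ w ∈ invSet Q z, u * w = w * u → w = u ∨ w = u * z)
    (v : G) (hv : v * v = 1) (hvz : v * z * v⁻¹ = z) (hvQ : ∀ x ∈ Q, v * x * v⁻¹ ∈ Q)
    (hel : ∀ x ∈ Q, v * x * v⁻¹ = x → x * x = 1) :
    {x | x ∈ invSet Q z ∧ v * x * v⁻¹ = x}.ncard = 2 ∧ {q | q ∈ Q ∧ v * q * v⁻¹ = q⁻¹}.ncard = 8 := by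
  let C : Subgroup G := Q ⊓ Subgroup.centralizer {v}
  have hCmem : ∀ x, x ∈ C ↔ x ∈ Q ∧ v * x * v⁻¹ = x := fun x => by
    simp only [C, Subgroup.mem_inf, Subgroup.mem_centralizer_iff, Set.mem_singleton_iff, forall_eq,
      mul_inv_eq_iff_eq_mul]
  have hz1 : ∀ e, e = 1 ∨ e = z → v * e * v⁻¹ = e ∧ e * e = 1 ∧ ∀ q ∈ Q, q * e = e * q := by
    rintro e (h | h) <;> subst h
    · exact ⟨by simp, by simp, fun q _ => by simp⟩
    · exact ⟨hvz, hQ.sqz, hQ.zcomm⟩
  let A : Subgroup G :=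
    { carrier := {x | x ∈ Q ∧ (v * x * v⁻¹ = x ∨ v * x * v⁻¹ = x * z)}
      one_mem' := ⟨one_mem Q, Or.inl (by simp)⟩
      mul_mem' := fun {a b} ha hb => ⟨mul_mem ha.1 hb.1, by
        rw [← conj_mul]
        rcases ha.2 with h | h <;> rcases hb.2 with h' | h' <;> rw [h, h']
        · exact Or.inl rfl
        · exact Or.inr (mul_assoc _ _ _).symm
        · right; rw [mul_assoc, ← hQ.zcomm b hb.1, ← mul_assoc]
        · left; rw [mul_assoc, ← mul_assoc z, ← hQ.zcomm b hb.1, mul_assoc b z, hQ.sqz, mul_one]⟩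
      inv_mem' := fun {a} ha => ⟨inv_mem ha.1, by
        rw [← conj_inv]
        rcases ha.2 with h | h <;> rw [h]
        · exact Or.inl rfl
        · right; rw [mul_inv_rev, inv_eq_of_mul_eq_one_right hQ.sqz, hQ.zcomm _ (inv_mem ha.1)]⟩ }
  have hzC : z ∈ C := (hCmem z).mpr ⟨hQ.zmem, hvz⟩
  have hA2 : Nat.card A ≤ 2 * Nat.card C := card_le_two_mul A C
    (fun x hx => ⟨((hCmem x).mp hx).1, Or.inl ((hCmem x).mp hx).2⟩) (by
      intro a ha b hb haC hbC
      refine (hCmem _).mpr ⟨mul_mem ha.1 hb.1, ?_⟩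
      rw [← conj_mul, ha.2.resolve_left fun h => haC ((hCmem a).mpr ⟨ha.1, h⟩),
        hb.2.resolve_left fun h => hbC ((hCmem b).mpr ⟨hb.1, h⟩), mul_assoc, ← mul_assoc z,
        ← hQ.zcomm b hb.1, mul_assoc b z, hQ.sqz, mul_one])
  -- the commutator with `v`
  let f : G → G := fun x => x⁻¹ * (v * x * v⁻¹)
  have hvv : v⁻¹ = v := inv_eq_of_mul_eq_one_right hv
  have hfA : ∀ x ∈ Q, f x ∈ A := by
    intro x hx
    have hf : f x ∈ Q := mul_mem (inv_mem hx) (hvQ x hx)
    refine ⟨hf, ?_⟩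
    have e : v * f x * v⁻¹ = (f x)⁻¹ := by
      calc v * f x * v⁻¹ = v * x⁻¹ * v * x * (v⁻¹ * v⁻¹) := by simp only [f]; group
        _ = v * x⁻¹ * v⁻¹ * x * (v * v) := by rw [hvv]
        _ = v * x⁻¹ * v⁻¹ * x := by rw [hv, mul_one]
        _ = (f x)⁻¹ := by simp only [f]; group
    rw [e]
    rcases hQ.sq _ hf with h | h
    · exact Or.inl (inv_eq_of_mul_eq_one_right h)
    · right
      apply inv_eq_of_mul_eq_one_right
      rw [← mul_assoc, h, hQ.sqz]
  let fA : Q → A := fun x => ⟨f x, hfA x x.2⟩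
  let r := Set.rangeSplitting fA
  have hr : ∀ a, fA (r a) = a := Set.apply_rangeSplitting fA
  have hdiff : ∀ x y : Q, f x = f y → (x : G) * (y : G)⁻¹ ∈ C := by
    intro x y h
    refine (hCmem _).mpr ⟨mul_mem x.2 (inv_mem y.2), ?_⟩
    calc v * ((x : G) * (y : G)⁻¹) * v⁻¹ = x * f x * (y * f y)⁻¹ := by simp only [f]; group
      _ = _ := by rw [h]; group
  let g : Q → C × Set.range fA := fun x => (⟨(x : G) * (r ⟨fA x, x, rfl⟩ : G)⁻¹, hdiff x (r ⟨fA x, x, rfl⟩)
    (congrArg Subtype.val (hr ⟨fA x, x, rfl⟩)).symm⟩, ⟨fA x, x, rfl⟩)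
  have hg : Function.Injective g := by
    intro x y h
    have h2 : (⟨fA x, x, rfl⟩ : Set.range fA) = ⟨fA y, y, rfl⟩ := congrArg Prod.snd h
    have h1 : (x : G) * (r ⟨fA x, x, rfl⟩ : G)⁻¹ = (y : G) * (r ⟨fA y, y, rfl⟩ : G)⁻¹ :=
      congrArg (fun p : C × Set.range fA => (p.1 : G)) h
    rw [h2] at h1
    exact Subtype.ext (mul_right_cancel h1)
  have hprod : 32 ≤ Nat.card C * Nat.card (Set.range fA) := by
    rw [← hQ.card, ← Nat.card_prod]
    exact Nat.card_le_card_of_injective g hg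
  have hrA : Nat.card (Set.range fA) ≤ Nat.card A := Nat.card_le_card_of_injective _ Subtype.val_injective
  -- `C` is an elementary abelian group
  have hCab : ∀ a ∈ C, ∀ b ∈ C, a * b = b * a := by
    intro a ha b hb
    have s : ∀ x ∈ C, x * x = 1 := fun x hx => hel x ((hCmem x).mp hx).1 ((hCmem x).mp hx).2
    have ha' := inv_eq_of_mul_eq_one_right (s a ha)
    have hb' := inv_eq_of_mul_eq_one_right (s b hb)
    have hab := inv_eq_of_mul_eq_one_right (s _ (mul_mem ha hb))
    rw [mul_inv_rev, ha', hb'] at hab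
    exact hab.symm
  have hCinv : ∀ x ∈ C, x ≠ 1 → x ≠ z → x ∈ invSet Q z := fun x hx h1 h2 =>
    ⟨((hCmem x).mp hx).1, hel x ((hCmem x).mp hx).1 ((hCmem x).mp hx).2, h1, h2⟩
  obtain ⟨u, huC, hu⟩ : ∃ u, u ∈ C ∧ u ∈ invSet Q z := by
    by_contra h
    push Not at h
    have hC2 : Nat.card C ≤ 2 := by
      have hsub : (C : Set G) ⊆ {1, z} := fun x hx => by
        by_contra hc
        simp only [Set.mem_insert_iff, Set.mem_singleton_iff, not_or] at hc
        exact h x hx (hCinv x hx hc.1 hc.2)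
      have := Set.ncard_le_ncard hsub (Set.toFinite _)
      rw [← Nat.card_coe_set_eq, Set.ncard_pair (Ne.symm hQ.zne)] at this
      exact this
    nlinarith
  have hCeq : C = four hQ hu := by
    refine le_antisymm (fun x hx => ?_) (fun x hx => ?_)
    · by_cases h1 : x = 1
      · exact Or.inl h1
      by_cases h2 : x = z
      · exact Or.inr (Or.inl h2)
      exact Or.inr (Or.inr (hcomm2 u hu x (hCinv x hx h1 h2) (hCab u huC x hx)))
    · rcases hx with rfl | rfl | rfl | rfl
      · exact one_mem C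
      · exact hzC
      · exact huC
      · exact mul_mem huC hzC
  have hC4 : Nat.card C = 4 := hCeq ▸ card_four hQ hu
  have hA8 : Nat.card A = 8 ∧ Nat.card (Set.range fA) = Nat.card A := by
    rw [hC4] at hprod hA2
    omega
  have hsurj : ∀ a ∈ A, ∃ x ∈ Q, f x = a := by
    intro a ha
    have h8 : Set.range fA = Set.univ :=
      Set.eq_of_subset_of_ncard_le (Set.subset_univ _)
        (by rw [Set.ncard_univ, ← Nat.card_coe_set_eq]; exact hA8.2.ge) (Set.toFinite _)
    obtain ⟨x, hx⟩ := h8.ge (Set.mem_univ (⟨a, ha⟩ : A))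
    exact ⟨x, x.2, congrArg Subtype.val hx⟩
  have hAab : ∀ a ∈ A, ∀ b ∈ A, a * b = b * a := by
    intro a ha b hb
    obtain ⟨x, hx, rfl⟩ := hsurj a ha
    obtain ⟨e, he, hve⟩ : ∃ e, (e = 1 ∨ e = z) ∧ v * b * v⁻¹ = b * e := by
      rcases hb.2 with h | h
      · exact ⟨1, Or.inl rfl, by rw [h, mul_one]⟩
      · exact ⟨z, Or.inr rfl, h⟩
    obtain ⟨δ, hδ, hxb⟩ : ∃ δ, (δ = 1 ∨ δ = z) ∧ x * b = b * x * δ := by
      rcases hQ.comm x hx b hb.1 with h | h
      · exact ⟨1, Or.inl rfl, by rw [h, mul_one]⟩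
      · exact ⟨z, Or.inr rfl, h⟩
    obtain ⟨hve', hee, hec⟩ := hz1 e he
    obtain ⟨hvδ, hδδ, hδc⟩ := hz1 δ hδ
    set x' := v * x * v⁻¹ with hx'
    have hx'Q : x' ∈ Q := hvQ x hx
    have h1 : x' * b = b * x' * δ := by
      have h := congrArg (fun w => v * w * v⁻¹) hxb
      simp only [← conj_mul] at h
      rw [hve, hvδ, ← hx', ← mul_assoc, mul_assoc b e x', ← hec x' hx'Q, ← mul_assoc,
        mul_assoc (b * x') e δ, ← hec δ (by rcases hδ with rfl | rfl <;> [exact one_mem Q; exact hQ.zmem]),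
        ← mul_assoc] at h
      exact mul_right_cancel h
    have h2 : x⁻¹ * b = b * x⁻¹ * δ := by
      calc x⁻¹ * b = x⁻¹ * (b * x * δ) * (δ⁻¹ * x⁻¹) := by group
        _ = x⁻¹ * (x * b) * (δ⁻¹ * x⁻¹) := by rw [hxb]
        _ = b * (δ * x⁻¹) := by rw [inv_eq_of_mul_eq_one_right hδδ]; group
        _ = b * x⁻¹ * δ := by rw [← hδc _ (inv_mem hx), mul_assoc]
    show x⁻¹ * x' * b = b * (x⁻¹ * x')
    calc x⁻¹ * x' * b = x⁻¹ * (b * x' * δ) := by rw [mul_assoc, h1]
      _ = (x⁻¹ * b) * x' * δ := by group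
      _ = b * x⁻¹ * (δ * x') * δ := by rw [h2]; group
      _ = b * x⁻¹ * x' * (δ * δ) := by rw [← hδc x' hx'Q]; group
      _ = _ := by rw [hδδ]; group
  constructor
  · rw [show {x | x ∈ invSet Q z ∧ v * x * v⁻¹ = x} = {u, u * z} by
      ext x
      constructor
      · rintro ⟨hx, h⟩
        exact hcomm2 u hu x hx (hCab u huC x ((hCmem x).mpr ⟨hx.1, h⟩))
      · rintro (rfl | rfl)
        · exact ⟨hu, ((hCmem _).mp huC).2⟩
        · exact ⟨mul_mem_invSet hQ hu, ((hCmem _).mp (mul_mem huC hzC)).2⟩]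
    exact Set.ncard_pair fun h => hQ.zne (by simpa using h.symm)
  · rw [show {q | q ∈ Q ∧ v * q * v⁻¹ = q⁻¹} = (A : Set G) by
      ext q
      constructor
      · rintro ⟨hq, h⟩
        refine ⟨hq, ?_⟩
        rw [h]
        rcases hQ.sq q hq with h' | h'
        · exact Or.inl (inv_eq_of_mul_eq_one_right h')
        · right
          apply inv_eq_of_mul_eq_one_right
          rw [← mul_assoc, h', hQ.sqz]
      · intro hq
        refine ⟨hq.1, ?_⟩
        rcases hQ.sq q hq.1 with h' | h'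
        · rw [inv_eq_of_mul_eq_one_right h']
          by_cases h1 : q = 1
          · simp [h1]
          by_cases h2 : q = z
          · rw [h2, hvz]
          have huA : u ∈ A := ⟨hu.1, Or.inl ((hCmem u).mp huC).2⟩
          rcases hcomm2 u hu q ⟨hq.1, h', h1, h2⟩ (hAab u huA q hq) with rfl | rfl
          · exact ((hCmem _).mp huC).2
          · exact ((hCmem _).mp (mul_mem huC hzC)).2
        · have hne : v * q * v⁻¹ ≠ q := fun h => hQ.zne (h'.symm.trans (hel q hq.1 h))
          rw [hq.2.resolve_left hne]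
          symm
          apply inv_eq_of_mul_eq_one_right
          rw [← mul_assoc, h', hQ.sqz]]
    rw [← Nat.card_coe_set_eq]
    exact hA8.1

end Cfsg.Agent.OrderJTwo
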